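import Groth.Agent.GmExtLib.ExtShZero
import Groth.Agent.ExtGmLib.Basic
import Groth.Agent.AdeqModLib.Sect
import Groth.Prelude.Def_TwC
import Mathlib.AlgebraicGeometry.Limits

/-!
# Homomorphisms out of a locally constant lattice lift locally
-/

set_option autoImplicit false
set_option backward.isDefEq.respectTransparency false
set_option backward.isDefEq.respectTransparency.types false
set_option maxHeartbeats 1000000
universe u

open CategoryTheory CategoryTheory.Limits AlgebraicGeometry Opposite MonoidalCategory CartesianMonoidalCategory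
open scoped MonObj

noncomputable section

namespace LatticeExtLib

variable {S : Scheme.{u}}

local notation "Jf" => QuotSh.J Scheme.fppfPrecoverage S

theorem finset_inf_mem {C : Type*} [Category C] {J : GrothendieckTopology C} {U : C} {κ : Type*} (t : Finset κ)
    (T : κ → Sieve U) (h : ∀ i ∈ t, T i ∈ J U) : t.inf T ∈ J U := by
  classical
  induction t using Finset.induction_on with
  | empty => simp
  | insert a t _ ih =>
    rw [Finset.inf_insert]
    exact J.intersection_covering (h a (by simp)) (ih fun i hi => h i (Finset.mem_insert_of_mem hi))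

/-- A jointly surjective family of open immersions covers. -/
theorem ofArrows_mem {U : Over S} {κ : Type*} {Z : κ → Over S} (g : ∀ k, Z k ⟶ U)
    (ho : ∀ k, IsOpenImmersion (g k).left) (hs : ∀ x : U.left, ∃ k, x ∈ Set.range (g k).left.base) :
    Sieve.ofArrows Z g ∈ Jf U := by
  refine AdeqModLib.ofArrows_mem _ ((Scheme.ofArrows_mem_precoverage_iff _).2 ⟨fun y => ?_, fun k => ?_⟩)
  · exact hs y
  · haveI := ho k
    change (@Flat ⊓ @LocallyOfFinitePresentation : MorphismProperty Scheme.{u}) (g k).left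
    exact ⟨inferInstance, inferInstance⟩

/-- A covering sieve of the localised site from a covering family of the underlying object. -/
theorem over_mem {V : Over S} {W : Over V} {κ : Type*} {Z : κ → Over S} (g : ∀ k, Z k ⟶ W.left)
    (ho : ∀ k, IsOpenImmersion (g k).left) (hs : ∀ x : W.left.left, ∃ k, x ∈ Set.range (g k).left.base)
    (R : Sieve W) (hR : ∀ k, R.arrows (Over.homMk (g k) rfl : Over.mk (g k ≫ W.hom) ⟶ W)) :
    R ∈ GrothendieckTopology.over Jf V W := by
  rw [GrothendieckTopology.mem_over_iff]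
  refine GrothendieckTopology.superset_covering _ ?_ (ofArrows_mem g ho hs)
  rw [Sieve.ofArrows, Sieve.generate_le_iff]
  rintro _ _ ⟨k⟩
  exact (Sieve.overEquiv_iff R (g k)).2 (hR k)

section

variable {S' : Scheme.{u}} (f : S' ⟶ S) {X : Over S} [GrpObj X] [IsCommMonObj X] {r : ℕ}
  (e : Red.bc f X ≅ TwC.const S' (Multiplicative (Fin r → ℤ)))
  (he : TwC.IsConstGrp (Multiplicative (Fin r → ℤ)) (Red.bc f X) e)

/-- The object over which the lattice is constant. -/
abbrev base : Over S := (Over.map f).obj (𝟙_ (Over S'))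

variable {V : Over S} (k : V ⟶ base f)

/-- An object over the base as an object over the new base scheme. -/
abbrev low (W : Over V) : Over S' := Over.mk (W.hom ≫ k).left

/-- The comparison with the object over the old base scheme. -/
def lowIso (W : Over V) : (Over.map f).obj (low f k W) ≅ W.left :=
  Over.isoMk (Iso.refl _) (by
    refine (Category.id_comp _).trans ((Over.w (W.hom ≫ k)).symm.trans ?_)
    show (W.hom ≫ k).left ≫ 𝟙 _ ≫ f = (W.hom ≫ k).left ≫ f
    rw [Category.id_comp])

theorem lowIso_hom_comp (W : Over V) :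
    (lowIso f k W).hom ≫ W.hom ≫ k = (Over.map f).map (toUnit (low f k W)) :=
  Over.OverMorphism.ext (Category.id_comp _)

/-- The section with a constant index. -/
def con (m : Fin r → ℤ) : base f ⟶ X :=
  (ExtGm.pts f X (𝟙_ (Over S'))).symm (TwC.pt S' _ (Multiplicative.ofAdd m) ≫ e.inv)

include he in
omit [IsCommMonObj X] in
theorem con_add (m n : Fin r → ℤ) : con f e (m + n) = con f e m * con f e n := by
  unfold con
  rw [ofAdd_add, ← he, ExtGm.pts_symm_mul]

/-- The constant sections as a homomorphism. -/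
def lin : (Fin r → ℤ) →+ (CGrpSh.pts Scheme.fppfPrecoverage X).obj.obj (op V) :=
  AddMonoidHom.mk' (fun m => ULift.up (Additive.ofMul (k ≫ con f e m)))
    (fun m n => ULift.ext _ _ (congrArg Additive.ofMul
      ((congrArg (k ≫ ·) (con_add f e he m n)).trans (MonObj.comp_mul _ _ _))))

/-- The constant presheaf. -/
abbrev A (V : Over S) (r : ℕ) : (Over V)ᵒᵖ ⥤ AddCommGrpCat.{u + 1} :=
  (Functor.const _).obj (AddCommGrpCat.of (ULift.{u + 1} (Fin r → ℤ)))

/-- A section over the base gives a map out of the constant presheaf. -/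
def ofLin {V : Over S} (F : BigSite.Ab Scheme.fppfPrecoverage S) (L : (Fin r → ℤ) →+ F.obj.obj (op V)) :
    A V r ⟶ (F.over V).obj where
  app W := AddCommGrpCat.ofHom
    ((F.obj.map W.unop.hom.op).hom.comp (L.comp AddEquiv.ulift.toAddMonoidHom))
  naturality W W' c := AddCommGrpCat.ext fun m => by
    show F.obj.map W'.unop.hom.op (L m.down) =
      F.obj.map c.unop.left.op (F.obj.map W.unop.hom.op (L m.down))
    rw [GmExtLib.map_map, Over.w c.unop]

/-- The map from the constant presheaf. -/
abbrev alpha : A V r ⟶ ((CGrpSh.pts Scheme.fppfPrecoverage X).over V).obj :=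
  ofLin _ (lin f e he k)

theorem isLocallyInjective_alpha :
    Presheaf.IsLocallyInjective (GrothendieckTopology.over Jf V) (alpha f e he k) := by
  refine ⟨fun {W} m n h => ?_⟩
  obtain rfl | hne := eq_or_ne m n
  · rw [Presheaf.equalizerSieve_self_eq_top]
    exact (GrothendieckTopology.over Jf V).top_mem _
  refine over_mem (W := W.unop) (κ := PEmpty.{1}) (Z := fun i => i.elim) (fun i => i.elim) (fun i => i.elim) ?_ _
    (fun i => i.elim)
  intro z
  exfalso
  have h1 : W.unop.hom ≫ k ≫ con f e m.down = W.unop.hom ≫ k ≫ con f e n.down :=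
    congrArg (fun x : ULift.{u + 1} (Additive (W.unop.left ⟶ X)) => x.down.toMul) h
  have h2 : (Over.map f).map (toUnit (low f k W.unop)) ≫ con f e m.down =
      (Over.map f).map (toUnit (low f k W.unop)) ≫ con f e n.down := by
    rw [← lowIso_hom_comp]
    simp only [Category.assoc]
    rw [h1]
  unfold con at h2
  rw [← ExtGm.pts_symm_comp, ← ExtGm.pts_symm_comp, (ExtGm.pts f X _).symm.injective.eq_iff, ← Category.assoc,
    ← Category.assoc, cancel_mono] at h2
  have h3 := congr($(congrArg (fun φ : low f k W.unop ⟶ _ => φ.left) h2) z)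
  have h4 := (sigmaι_eq_iff (fun _ : Multiplicative (Fin r → ℤ) => S') _ _ _ _).1 h3
  exact hne (ULift.ext _ _ (Multiplicative.ofAdd.injective (congrArg Sigma.fst h4)))

theorem isLocallySurjective_alpha :
    Presheaf.IsLocallySurjective (GrothendieckTopology.over Jf V) (alpha f e he k) := by
  refine ⟨fun {W} s => ?_⟩
  let x : W.left ⟶ X := Additive.toMul (ULift.down s)
  let c₀ := ExtGm.pts f X (low f k W) ((lowIso f k W).hom ≫ x)
  let c := c₀ ≫ e.hom
  let σ := fun m : Multiplicative (Fin r → ℤ) => Sigma.ι (fun _ : Multiplicative (Fin r → ℤ) => S') m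
  let P : Multiplicative (Fin r → ℤ) → (low f k W).left.Opens := fun m => c.left ⁻¹ᵁ (σ m).opensRange
  let a : ∀ m, Over.mk ((P m).ι ≫ (low f k W).hom) ⟶ low f k W := fun m => Over.homMk (P m).ι rfl
  refine over_mem (Z := fun m => (Over.map f).obj (Over.mk ((P m).ι ≫ (low f k W).hom)))
    (fun m => (Over.map f).map (a m) ≫ (lowIso f k W).hom) (fun m => ?_) (fun z => ?_) _ (fun m => ?_)
  · show IsOpenImmersion ((P m).ι ≫ 𝟙 _)
    rw [Category.comp_id]
    infer_instance
  · obtain ⟨m, t, ht⟩ := (sigmaOpenCover (fun _ : Multiplicative (Fin r → ℤ) => S')).exists_eq (c.left z)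
    exact ⟨m, ⟨z, ⟨t, ht⟩⟩, rfl⟩
  refine ⟨ULift.up (Multiplicative.toAdd m), ULift.ext _ _ (congrArg Additive.ofMul ?_)⟩
  show (((Over.map f).map (a m) ≫ (lowIso f k W).hom) ≫ W.hom) ≫ k ≫ con f e (Multiplicative.toAdd m) =
    ((Over.map f).map (a m) ≫ (lowIso f k W).hom) ≫ x
  have hh : (((Over.map f).map (a m) ≫ (lowIso f k W).hom) ≫ W.hom) ≫ k =
      (Over.map f).map (a m ≫ toUnit (low f k W)) := by
    rw [Functor.map_comp, ← lowIso_hom_comp]
    simp only [Category.assoc]
  rw [← Category.assoc, hh, Category.assoc]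
  apply (ExtGm.pts f X _).injective
  unfold con
  rw [← ExtGm.pts_symm_comp, Equiv.apply_symm_apply]
  refine Eq.trans ?_ (Adjunction.homEquiv_naturality_left (Over.mapPullbackAdj f) (a m) _).symm
  refine (cancel_mono e.hom).1 ?_
  simp only [Category.assoc, e.inv_hom_id, Category.comp_id]
  refine Over.OverMorphism.ext ?_
  show (P m).ι ≫ (W.hom ≫ k).left ≫ σ m = (P m).ι ≫ c.left
  have hsub : Set.range ((P m).ι ≫ c.left).base ⊆ Set.range (σ m).base := by
    rintro _ ⟨⟨z, hz⟩, rfl⟩
    exact hz
  let l := IsOpenImmersion.lift (σ m) ((P m).ι ≫ c.left) hsub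
  have hl : l ≫ σ m = (P m).ι ≫ c.left := IsOpenImmersion.lift_fac _ _ _
  have hld : l = (P m).ι ≫ (W.hom ≫ k).left := by
    have hd := congrArg (· ≫ Sigma.desc fun _ : Multiplicative (Fin r → ℤ) => 𝟙 S') hl
    simp only [σ, Category.assoc, colimit.ι_desc, Cofan.mk_ι_app] at hd
    refine ((Category.comp_id l).symm.trans hd).trans ?_
    exact congrArg ((P m).ι ≫ ·) (Over.w c)
  rw [← hl, hld, Category.assoc]

/-- Homomorphisms out of the lattice over the base lift to the middle of a sequence locally. -/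
theorem exists_hom_of_lin (F : BigSite.Ab Scheme.fppfPrecoverage S) (L : (Fin r → ℤ) →+ F.obj.obj (op V)) :
    ∃ φ : (CGrpSh.pts Scheme.fppfPrecoverage X).over V ⟶ F.over V, alpha f e he k ≫ φ.hom = ofLin F L := by
  haveI := isLocallyInjective_alpha f e he k
  haveI := isLocallySurjective_alpha f e he k
  obtain ⟨φ, hφ⟩ := ((GrothendieckTopology.over Jf V).W_of_isLocallyBijective (alpha f e he k) _ (F.over V).property).2
    (ofLin F L)
  exact ⟨⟨φ⟩, hφ⟩

theorem hom_ext_alpha {F : BigSite.Ab Scheme.fppfPrecoverage S}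
    {φ φ' : (CGrpSh.pts Scheme.fppfPrecoverage X).over V ⟶ F.over V}
    (h : alpha f e he k ≫ φ.hom = alpha f e he k ≫ φ'.hom) : φ = φ' := by
  haveI := isLocallyInjective_alpha f e he k
  haveI := isLocallySurjective_alpha f e he k
  exact Sheaf.hom_ext
    (((GrothendieckTopology.over Jf V).W_of_isLocallyBijective (alpha f e he k) _ (F.over V).property).1 h)

include he in
/-- Homomorphisms out of the lattice lift locally on the base where it is constant. -/
theorem imageSieve_mem_base {P K : BigSite.Ab Scheme.fppfPrecoverage S} (g : P ⟶ K) [Sheaf.IsLocallySurjective g]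
    (k : V ⟶ base f) (ψ : (CGrpSh.pts Scheme.fppfPrecoverage X).over V ⟶ K.over V) :
    Presheaf.imageSieve (HomSh.homShMap Jf (𝟙 (CGrpSh.pts Scheme.fppfPrecoverage X)) g).hom ψ ∈ Jf V := by
  let b : Fin r → K.obj.obj (op V) := fun i =>
    ψ.hom.app (op (Over.mk (𝟙 V))) (lin f e he k (Pi.single i 1))
  refine GrothendieckTopology.superset_covering _ ?_
    (finset_inf_mem (Finset.univ : Finset (Fin r))
      (fun i => Presheaf.imageSieve g.hom (b i)) (fun i _ => Presheaf.imageSieve_mem Jf g.hom (b i)))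
  intro V' h hh
  have hh' : ∀ i, (Presheaf.imageSieve g.hom (b i)).arrows h := fun i =>
    (Finset.inf_le (f := fun i => Presheaf.imageSieve g.hom (b i)) (Finset.mem_univ i)) _ hh
  choose p hp using hh'
  let Lp : (Fin r → ℤ) →+ P.obj.obj (op V') := (Fintype.linearCombination ℤ p).toAddMonoidHom
  obtain ⟨φ, hφ⟩ := exists_hom_of_lin f e he (h ≫ k) P Lp
  refine ⟨φ, hom_ext_alpha f e he (h ≫ k) (NatTrans.ext (funext fun W => AddCommGrpCat.ext fun m => ?_))⟩
  have h1 := congr($(congrArg (fun θ => NatTrans.app θ W) hφ) m)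
  show g.hom.app _ (φ.hom.app W (((alpha f e he (h ≫ k)).app W) m)) =
    ψ.hom.app (op (Over.mk (W.unop.hom ≫ h))) (((alpha f e he (h ≫ k)).app W) m)
  refine (congrArg (g.hom.app _) h1).trans ?_
  refine (NatTrans.naturality_apply g.hom W.unop.hom.op (Lp m.down)).trans ?_
  have hT : (K.obj.map h.op).hom.comp ((ψ.hom.app (op (Over.mk (𝟙 V)))).hom.comp (lin f e he k)) =
      (g.hom.app (op V')).hom.comp Lp := by
    refine AddMonoidHom.functions_ext _ _ _ fun i z => ?_
    have hz : (Pi.single i z : Fin r → ℤ) = z • Pi.single i 1 := by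
      rw [← Pi.single_smul]; simp
    rw [hz, map_zsmul, map_zsmul]
    refine congrArg (z • ·) ?_
    show K.obj.map h.op (b i) = g.hom.app (op V') (Fintype.linearCombination ℤ p (Pi.single i 1))
    rw [Fintype.linearCombination_apply_single, one_smul]
    exact (hp i).symm
  refine (congrArg (K.obj.map W.unop.hom.op) (DFunLike.congr_fun hT m.down).symm).trans ?_
  let c : Over.mk (W.unop.hom ≫ h) ⟶ Over.mk (𝟙 V) := Over.homMk (W.unop.hom ≫ h) (Category.comp_id _)
  show K.obj.map W.unop.hom.op (K.obj.map h.op (ψ.hom.app (op (Over.mk (𝟙 V))) (lin f e he k m.down))) = _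
  rw [GmExtLib.map_map]
  refine (NatTrans.naturality_apply ψ.hom c.op (lin f e he k m.down)).symm.trans ?_
  refine congrArg (ψ.hom.app (op (Over.mk (W.unop.hom ≫ h)))) ?_
  refine ULift.ext _ _ (congrArg Additive.ofMul ?_)
  show (W.unop.hom ≫ h) ≫ k ≫ con f e m.down = W.unop.hom ≫ (h ≫ k) ≫ con f e m.down
  simp only [Category.assoc]

end

/-- Homomorphisms out of a lattice lift locally. -/
theorem imageSieve_mem {X : Over S} [GrpObj X] [IsCommMonObj X]
    (hX : TwC.Locally S TwC.Topology.etale (fun S' f => ∃ (r : ℕ) (e : Red.bc f X ≅ TwC.const S' (Multiplicative (Fin r → ℤ))),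
      TwC.IsConstGrp (Multiplicative (Fin r → ℤ)) (Red.bc f X) e))
    {P K : BigSite.Ab Scheme.fppfPrecoverage S} (g : P ⟶ K) [Sheaf.IsLocallySurjective g] (U : Over S)
    (ψ : (CGrpSh.pts Scheme.fppfPrecoverage X).over U ⟶ K.over U) :
    Presheaf.imageSieve (HomSh.homShMap Jf (𝟙 (CGrpSh.pts Scheme.fppfPrecoverage X)) g).hom ψ ∈ Jf U := by
  choose T f het hmem r e he using hX
  let Z : S → Over S := fun s => Over.mk (pullback.snd (f s) U.hom ≫ U.hom)
  let p : ∀ s, Z s ⟶ U := fun s => Over.homMk (pullback.snd (f s) U.hom) rfl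
  have hcov : Sieve.ofArrows Z p ∈ Jf U := by
    refine AdeqModLib.ofArrows_mem _ ((Scheme.ofArrows_mem_precoverage_iff _).2 ⟨fun y => ?_, fun s => ?_⟩)
    · obtain ⟨t, ht⟩ := hmem (U.hom y)
      obtain ⟨z, -, hz⟩ := Scheme.Pullback.exists_preimage_pullback t y ht
      exact ⟨U.hom y, z, hz⟩
    · haveI := het s
      change (@Flat ⊓ @LocallyOfFinitePresentation : MorphismProperty Scheme.{u}) (pullback.snd (f s) U.hom)
      exact ⟨inferInstance, inferInstance⟩
  refine GrothendieckTopology.transitive _ hcov _ fun W c hc => ?_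
  obtain ⟨s, a, rfl⟩ := (Sieve.mem_ofArrows_iff _ _ c).1 hc
  let k : Z s ⟶ base (f s) := Over.homMk (pullback.fst (f s) U.hom) (by
    show pullback.fst (f s) U.hom ≫ 𝟙 _ ≫ f s = pullback.snd (f s) U.hom ≫ U.hom
    rw [Category.id_comp]
    exact pullback.condition)
  rw [Presheaf.pullback_imageSieve]
  exact imageSieve_mem_base (f s) (e s) (he s) g (a ≫ k) _

end LatticeExtLib
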